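import Mathlib
import Groth.Agent.CAlgBasics.FlatMod
import Groth.Agent.CAlgBasics.UnivInj

set_option autoImplicit false
set_option linter.style.haveILetI false

/-!
# Local criteria of flatness
-/

universe u

open TensorProduct IsLocalRing

namespace Groth.Agent.LocFlat

variable {R S : Type u} [CommRing R] [CommRing S] [Algebra R S]

theorem map_le_jacobson [IsLocalRing R] [IsLocalRing S] [IsLocalHom (algebraMap R S)] :
    (maximalIdeal R).map (algebraMap R S) ≤ Ideal.jacobson ⊥ := by
  rw [IsLocalRing.jacobson_eq_maximalIdeal ⊥ bot_ne_top, Ideal.map_le_iff_le_comap]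
  exact fun x hx => map_nonunit (algebraMap R S) x hx

/-- Tensoring with a vector space over the residue field preserves injectivity modulo `m`. -/
theorem lTensor_injective_of_residue [IsLocalRing R] {N M P : Type u} [AddCommGroup N] [Module R N]
    [AddCommGroup M] [Module R M] [AddCommGroup P] [Module R P] [Module (R ⧸ maximalIdeal R) P]
    [IsScalarTower R (R ⧸ maximalIdeal R) P] (u : N →ₗ[R] M)
    (h : Function.Injective (u.lTensor (ResidueField R))) : Function.Injective (u.lTensor P) := by
  letI := Ideal.Quotient.field (maximalIdeal R)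
  let k := R ⧸ maximalIdeal R
  let a := AlgebraTensorModule.cancelBaseChange R k k P N
  let b := AlgebraTensorModule.cancelBaseChange R k k P M
  have hb : Function.Injective (u.baseChange k) := h
  have h1 := Module.Flat.lTensor_preserves_injective_linearMap (M := P) (u.baseChange k) hb
  have e : ⇑(u.lTensor P) ∘ ⇑a = ⇑b ∘ ⇑((u.baseChange k).lTensor P) := by
    funext z
    induction z with
    | zero => simp
    | tmul x y =>
      induction y with
      | zero => simp
      | tmul r m => simp [a, b]
      | add u v hu hv => simp_all [TensorProduct.tmul_add]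
    | add u v hu hv => simp_all
  rw [← EquivLike.injective_comp a, e]
  exact b.injective.comp h1

theorem mem_smul_top_of_mem {N Q : Type u} [AddCommGroup N] [Module R N] [Module S N]
    [IsScalarTower R S N] [AddCommGroup Q] [Module R Q] (I : Ideal R) (Q' : Submodule R Q)
    (hQ' : Q' ≤ I • ⊤) (w : N ⊗[R] Q') :
    Q'.subtype.lTensor N w ∈ I.map (algebraMap R S) • (⊤ : Submodule S (N ⊗[R] Q)) := by
  induction w using TensorProduct.induction_on with
  | zero => rw [map_zero]; exact zero_mem _
  | add x y hx hy => rw [map_add]; exact add_mem hx hy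
  | tmul x q =>
    have key : ∀ v ∈ (I • ⊤ : Submodule R Q),
        x ⊗ₜ[R] v ∈ I.map (algebraMap R S) • (⊤ : Submodule S (N ⊗[R] Q)) := by
      intro v hv
      induction hv using Submodule.smul_induction_on' with
      | smul a ha y _ =>
        rw [TensorProduct.tmul_smul, ← IsScalarTower.algebraMap_smul S a]
        exact Submodule.smul_mem_smul (Ideal.mem_map_of_mem _ ha) Submodule.mem_top
      | add y _ z _ hy hz => rw [TensorProduct.tmul_add]; exact add_mem hy hz
    exact key _ (hQ' q.2)

/-- A map into a flat module which is injective on the closed fibre is universally injective (for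
finite coefficient modules). -/
theorem rTensor_injective_of_residue [IsLocalRing R] [IsLocalRing S] [IsNoetherianRing S]
    [IsLocalHom (algebraMap R S)] {N M : Type u} [AddCommGroup N] [Module R N] [Module S N]
    [IsScalarTower R S N] [Module.Finite S N] [AddCommGroup M] [Module R M] [Module.Flat R M]
    (u : N →ₗ[R] M) (h : Function.Injective (u.lTensor (ResidueField R)))
    (Q : Type u) [AddCommGroup Q] [Module R Q] [Module.Finite R Q] :
    Function.Injective (u.rTensor Q) := by
  let m := maximalIdeal R
  rw [injective_iff_map_eq_zero]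
  intro x hx
  suffices H : ∀ n : ℕ, x ∈ LinearMap.range ((m ^ n • ⊤ : Submodule R Q).subtype.lTensor N) by
    haveI : Module.Finite S (N ⊗[R] Q) := by
      obtain ⟨k, q, hq⟩ := Module.Finite.exists_fin' R Q
      let φ : N ⊗[R] (Fin k → R) →ₗ[S] N ⊗[R] Q := AlgebraTensorModule.lTensor S N q
      haveI : Module.Finite S (N ⊗[R] (Fin k → R)) :=
        Module.Finite.equiv (TensorProduct.piScalarRight R S N (Fin k)).symm
      exact Module.Finite.of_surjective φ (LinearMap.lTensor_surjective N hq)
    have hb := Ideal.iInf_pow_smul_eq_bot_of_le_jacobson (M := N ⊗[R] Q)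
      (m.map (algebraMap R S)) map_le_jacobson
    rw [← Submodule.mem_bot S, ← hb, Submodule.mem_iInf]
    intro n
    obtain ⟨w, rfl⟩ := H n
    rw [← Ideal.map_pow]
    exact mem_smul_top_of_mem (S := S) (m ^ n) _ le_rfl w
  intro n
  induction n with
  | zero =>
    obtain ⟨w, hw⟩ := LinearMap.lTensor_surjective N
      (g := (m ^ 0 • ⊤ : Submodule R Q).subtype) (fun q => ⟨⟨q, by simp⟩, rfl⟩) x
    exact ⟨w, hw⟩
  | succ n ih =>
    obtain ⟨w, rfl⟩ := ih
    let Qn : Submodule R Q := m ^ n • ⊤
    let U : Submodule R Qn := m • ⊤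
    have h0 : u.rTensor Qn w = 0 := by
      apply Module.Flat.lTensor_preserves_injective_linearMap (M := M) Qn.subtype Qn.subtype_injective
      rw [map_zero, ← LinearMap.comp_apply, LinearMap.lTensor_comp_rTensor,
        ← LinearMap.rTensor_comp_lTensor, LinearMap.comp_apply]
      exact hx
    have hP : Function.Injective (u.rTensor (Qn ⧸ U)) :=
      (LinearMap.lTensor_inj_iff_rTensor_inj _ _).mp (lTensor_injective_of_residue u h)
    have h1 : U.mkQ.lTensor N w = 0 := by
      apply hP
      rw [map_zero, ← LinearMap.comp_apply, LinearMap.rTensor_comp_lTensor,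
        ← LinearMap.lTensor_comp_rTensor, LinearMap.comp_apply, h0, map_zero]
    obtain ⟨v, hv⟩ := (lTensor_exact N (LinearMap.exact_subtype_mkQ U) U.mkQ_surjective w).mp h1
    have hle : U.map Qn.subtype ≤ (m ^ (n + 1) • ⊤ : Submodule R Q) := by
      rw [Submodule.map_smul'', Submodule.map_top, Submodule.range_subtype]
      show m • m ^ n • (⊤ : Submodule R Q) ≤ _
      rw [← Submodule.mul_smul, ← pow_succ']
    let j : U →ₗ[R] (m ^ (n + 1) • ⊤ : Submodule R Q) :=
      LinearMap.codRestrict _ (Qn.subtype ∘ₗ U.subtype) fun z => hle ⟨z.1, z.2, rfl⟩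
    refine ⟨j.lTensor N v, ?_⟩
    rw [← hv, ← LinearMap.lTensor_comp_apply, ← LinearMap.lTensor_comp_apply]
    rfl

/-- A map into a flat module which is injective on the closed fibre is injective with flat
cokernel. -/
theorem injective_and_flat_of_residue [IsLocalRing R] [IsLocalRing S] [IsNoetherianRing S]
    [IsLocalHom (algebraMap R S)] {N M : Type u} [AddCommGroup N] [Module R N] [Module S N]
    [IsScalarTower R S N] [Module.Finite S N] [AddCommGroup M] [Module R M] [Module.Flat R M]
    (u : N →ₗ[R] M) (h : Function.Injective (u.lTensor (ResidueField R))) :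
    Function.Injective u ∧ Module.Flat R (M ⧸ LinearMap.range u) := by
  have key := rTensor_injective_of_residue (S := S) u h
  refine ⟨?_, CAlgBasics.flat_coker_of_injective_rTensor_quotient
    (LinearMap.exact_map_mkQ_range u) (Submodule.mkQ_surjective _) fun I _ => key (R ⧸ I)⟩
  intro a b hab
  have h1 := key R (a₁ := a ⊗ₜ 1) (a₂ := b ⊗ₜ 1) (by simp [hab])
  simpa using congrArg (TensorProduct.rid R N) h1

/-- Exactness of `A → B × C → D` detects kernels of `B → D` after tensoring. -/
theorem exists_preimage {M A B C D : Type u} [AddCommGroup M] [Module R M] [AddCommGroup A]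
    [Module R A] [AddCommGroup B] [Module R B] [AddCommGroup C] [Module R C] [AddCommGroup D]
    [Module R D] (α : A →ₗ[R] B × C) (β : B × C →ₗ[R] D) (hex : Function.Exact α β)
    (hβ : Function.Surjective β) (z : M ⊗[R] B)
    (hz : (β ∘ₗ LinearMap.inl R B C).lTensor M z = 0) :
    ∃ w : M ⊗[R] A, (LinearMap.fst R B C ∘ₗ α).lTensor M w = z ∧
      (LinearMap.snd R B C ∘ₗ α).lTensor M w = 0 := by
  rw [LinearMap.lTensor_comp_apply] at hz
  obtain ⟨w, hw⟩ := (lTensor_exact M hex hβ _).mp hz
  refine ⟨w, ?_, ?_⟩
  · rw [LinearMap.lTensor_comp_apply, hw, ← LinearMap.lTensor_comp_apply,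
      show LinearMap.fst R B C ∘ₗ LinearMap.inl R B C = LinearMap.id from rfl, LinearMap.lTensor_id,
      LinearMap.id_apply]
  · rw [LinearMap.lTensor_comp_apply, hw, ← LinearMap.lTensor_comp_apply,
      show LinearMap.snd R B C ∘ₗ LinearMap.inl R B C = 0 from rfl, LinearMap.lTensor_zero,
      LinearMap.zero_apply]

/-- Krull intersection: flatness from control of the kernels of `M ⊗ J → M`. -/
theorem flat_of_forall_mem_range [IsNoetherianRing R] [IsNoetherianRing S] {M : Type u}
    [AddCommGroup M] [Module R M] [Module S M] [IsScalarTower R S M] [Module.Finite S M]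
    (I : Ideal R) (hI : I.map (algebraMap R S) ≤ Ideal.jacobson ⊥)
    (h : ∀ (J : Ideal R) (z : M ⊗[R] J), (Submodule.subtype J).lTensor M z = 0 → ∀ n : ℕ,
      z ∈ LinearMap.range ((Submodule.inclusion (inf_le_left : J ⊓ I ^ n ≤ J)).lTensor M)) :
    Module.Flat R M := by
  rw [Module.Flat.iff_lTensor_injective']
  intro J
  rw [injective_iff_map_eq_zero]
  intro z hz
  obtain ⟨c, hc⟩ := Ideal.exists_pow_inf_eq_pow_smul I (J : Submodule R R)
  haveI : Module.Finite S (M ⊗[R] J) := by
    haveI : Module.Finite R J := Module.Finite.iff_fg.mpr (IsNoetherian.noetherian J)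
    obtain ⟨k, q, hq⟩ := Module.Finite.exists_fin' R J
    let φ : M ⊗[R] (Fin k → R) →ₗ[S] M ⊗[R] J := AlgebraTensorModule.lTensor S M q
    haveI : Module.Finite S (M ⊗[R] (Fin k → R)) :=
      Module.Finite.equiv (TensorProduct.piScalarRight R S M (Fin k)).symm
    exact Module.Finite.of_surjective φ (LinearMap.lTensor_surjective M hq)
  have hb := Ideal.iInf_pow_smul_eq_bot_of_le_jacobson (M := M ⊗[R] J) (I.map (algebraMap R S)) hI
  rw [← Submodule.mem_bot S, ← hb, Submodule.mem_iInf]
  intro n
  obtain ⟨w, rfl⟩ := h J z hz (n + c)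
  rw [← Ideal.map_pow]
  let Q' : Submodule R J := Submodule.comap J.subtype (J ⊓ I ^ (n + c))
  have hQ' : Q' ≤ I ^ n • ⊤ := by
    intro x hx
    have h1 : (x : R) ∈ (I ^ (n + c) • ⊤ ⊓ J : Submodule R R) :=
      ⟨by rw [smul_eq_mul, Ideal.mul_top]; exact hx.2, hx.1⟩
    rw [hc (n + c) (Nat.le_add_left c n), Nat.add_sub_cancel] at h1
    have h2 := Submodule.smul_mono (le_refl (I ^ n)) (inf_le_right : (I ^ c • ⊤ ⊓ J : Submodule R R) ≤ J) h1
    have h3 : Submodule.map J.subtype (I ^ n • ⊤) = I ^ n • J := by
      rw [Submodule.map_smul'', Submodule.map_top, Submodule.range_subtype]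
    rw [← h3] at h2
    obtain ⟨y, hy, hyx⟩ := h2
    rwa [← Subtype.val_injective hyx]
  let e : ↥(J ⊓ I ^ (n + c)) →ₗ[R] Q' :=
    LinearMap.codRestrict Q' (Submodule.inclusion inf_le_left) fun v => v.2
  have := mem_smul_top_of_mem (S := S) (N := M) (I ^ n) Q' hQ' (e.lTensor M w)
  rwa [← LinearMap.lTensor_comp_apply] at this

/-- `m ⊗ M → M` injective gives injectivity for ideals containing a power of `m`. -/
theorem lTensor_injective_of_pow_le [IsLocalRing R] [IsNoetherianRing R] {M : Type u}
    [AddCommGroup M] [Module R M]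
    (h : Function.Injective ((maximalIdeal R).subtype.lTensor M)) (k : ℕ) (N : Ideal R)
    (hN : maximalIdeal R ^ k ≤ N) : Function.Injective (N.subtype.lTensor M) := by
  induction N using WellFoundedGT.induction with
  | _ N ih =>
    by_cases htop : N = ⊤
    · subst htop
      exact (LinearEquiv.lTensor M (Submodule.topEquiv : (⊤ : Submodule R R) ≃ₗ[R] R)).injective
    obtain ⟨p, hp, hmp⟩ : ∃ p ∉ N, ∀ a ∈ maximalIdeal R, a * p ∈ N := by
      have hex : ∃ j, maximalIdeal R ^ j ≤ N := ⟨k, hN⟩
      classical
      have hpos : Nat.find hex ≠ 0 := fun h0 => htop (top_le_iff.mp (by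
        have := Nat.find_spec hex
        rwa [h0, pow_zero, Ideal.one_eq_top] at this))
      obtain ⟨p, hp, hpN⟩ := SetLike.not_le_iff_exists.mp
        (Nat.find_min hex (Nat.sub_one_lt hpos))
      refine ⟨p, hpN, fun a ha => Nat.find_spec hex ?_⟩
      rw [← Nat.sub_one_add_one hpos, pow_succ']
      exact Ideal.mul_mem_mul ha hp
    let N₁ : Ideal R := N ⊔ Ideal.span {p}
    have hlt : N < N₁ :=
      left_lt_sup.mpr fun hle => hp (hle (Ideal.mem_span_singleton_self p))
    have hN₁ := ih N₁ hlt (hN.trans le_sup_left)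
    let α : maximalIdeal R →ₗ[R] N × R :=
      LinearMap.prod
        (LinearMap.codRestrict N ((LinearMap.mulRight R (-p)) ∘ₗ (maximalIdeal R).subtype)
          fun a => by
            show a.1 * -p ∈ N
            rw [mul_neg]
            exact neg_mem (hmp a.1 a.2))
        (maximalIdeal R).subtype
    let β : N × R →ₗ[R] N₁ := LinearMap.coprod (Submodule.inclusion le_sup_left)
      (LinearMap.codRestrict N₁ (LinearMap.mulRight R p)
        fun r => Ideal.mem_sup_right (Ideal.mul_mem_left _ _ (Ideal.mem_span_singleton_self p)))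
    have hex : Function.Exact α β := by
      rintro ⟨⟨x, hx⟩, r⟩
      constructor
      · intro h0
        have h1 : x + r * p = 0 := congrArg Subtype.val h0
        have hr : r ∈ maximalIdeal R := by
          by_contra hr
          obtain ⟨v, hv⟩ := IsLocalRing.notMem_maximalIdeal.mp hr
          have h2 : r * p ∈ N := by
            rw [eq_neg_of_add_eq_zero_right h1]; exact neg_mem hx
          have h3 := N.mul_mem_left (↑v⁻¹ : R) h2
          rw [← hv, ← mul_assoc, Units.inv_mul, one_mul] at h3
          exact hp h3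
        refine ⟨⟨r, hr⟩, Prod.ext (Subtype.ext ?_) rfl⟩
        show r * -p = x
        linear_combination -h1
      · rintro ⟨a, ha⟩
        rw [← ha]
        refine Subtype.ext ?_
        show a.1 * -p + a.1 * p = 0
        ring
    have hβ : Function.Surjective β := by
      rintro ⟨y, hy⟩
      obtain ⟨x, hx, z, hz, rfl⟩ := Submodule.mem_sup.mp hy
      obtain ⟨r, rfl⟩ := Ideal.mem_span_singleton'.mp hz
      exact ⟨(⟨x, hx⟩, r), rfl⟩
    rw [injective_iff_map_eq_zero]
    intro z hz
    obtain ⟨w, hw, hw0⟩ := exists_preimage α β hex hβ z (by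
      apply hN₁
      rw [map_zero, ← LinearMap.lTensor_comp_apply]
      refine Eq.trans ?_ hz
      congr 2
      ext v
      show v.1 + 0 * p = v.1
      ring)
    have hw1 : w = 0 := by
      apply h
      rw [map_zero]
      exact hw0
    rw [← hw, hw1, map_zero]

/-- The local criterion of flatness. -/
theorem flat_of_maximalIdeal [IsLocalRing R] [IsLocalRing S] [IsNoetherianRing R] [IsNoetherianRing S]
    [IsLocalHom (algebraMap R S)] {M : Type u} [AddCommGroup M] [Module R M] [Module S M]
    [IsScalarTower R S M] [Module.Finite S M]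
    (h : Function.Injective ((maximalIdeal R).subtype.lTensor M)) : Module.Flat R M := by
  refine flat_of_forall_mem_range (S := S) (maximalIdeal R) map_le_jacobson fun J z hz n => ?_
  let P := maximalIdeal R ^ n
  let α : ↥(J ⊓ P) →ₗ[R] J × P :=
    LinearMap.prod (Submodule.inclusion inf_le_left) (-(Submodule.inclusion inf_le_right))
  let β : J × P →ₗ[R] ↥(J ⊔ P) :=
    LinearMap.coprod (Submodule.inclusion le_sup_left) (Submodule.inclusion le_sup_right)
  have hex : Function.Exact α β := by
    rintro ⟨⟨x, hx⟩, ⟨y, hy⟩⟩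
    constructor
    · intro h0
      have h1 : x + y = 0 := congrArg Subtype.val h0
      refine ⟨⟨x, hx, ?_⟩, Prod.ext rfl (Subtype.ext ?_)⟩
      · rw [eq_neg_of_add_eq_zero_left h1]; exact neg_mem hy
      · show -x = y
        linear_combination -h1
    · rintro ⟨a, ha⟩
      rw [← ha]
      refine Subtype.ext ?_
      show a.1 + -a.1 = 0
      ring
  have hβ : Function.Surjective β := by
    rintro ⟨y, hy⟩
    obtain ⟨x, hx, z, hz, rfl⟩ := Submodule.mem_sup.mp hy
    exact ⟨(⟨x, hx⟩, ⟨z, hz⟩), rfl⟩
  obtain ⟨w, hw, -⟩ := exists_preimage α β hex hβ z (by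
    apply lTensor_injective_of_pow_le h n (J ⊔ P) le_sup_right
    rw [map_zero, ← LinearMap.lTensor_comp_apply]
    refine Eq.trans ?_ hz
    congr 2
    ext v
    show v.1 + 0 = v.1
    exact add_zero _)
  exact ⟨w, hw⟩

/-- The local criterion of flatness relative to an ideal. -/
theorem flat_of_ideal [IsLocalRing R] [IsLocalRing S] [IsNoetherianRing R] [IsNoetherianRing S]
    [IsLocalHom (algebraMap R S)] {M : Type u} [AddCommGroup M] [Module R M] [Module S M]
    [IsScalarTower R S M] [Module.Finite S M] (I : Ideal R) (hI : I ≠ ⊤)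
    (h1 : Function.Injective (I.subtype.rTensor M))
    (h2 : Module.Flat (R ⧸ I) ((R ⧸ I) ⊗[R] M)) : Module.Flat R M := by
  refine flat_of_maximalIdeal (S := S) ((LinearMap.lTensor_inj_iff_rTensor_inj _ _).mpr ?_)
  have hIm : I ≤ maximalIdeal R := IsLocalRing.le_maximalIdeal hI
  let mb : Submodule (R ⧸ I) (R ⧸ I) := (maximalIdeal R).map (Ideal.Quotient.mk I)
  haveI := h2
  let π : maximalIdeal R →ₗ[R] mb :=
    LinearMap.codRestrict (mb.restrictScalars R)
      ((Ideal.Quotient.mkₐ R I).toLinearMap ∘ₗ (maximalIdeal R).subtype)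
      fun a => Ideal.mem_map_of_mem _ a.2
  have hπ : Function.Surjective π := by
    rintro ⟨y, hy⟩
    obtain ⟨a, ha, rfl⟩ := (Ideal.mem_map_iff_of_surjective _ Ideal.Quotient.mk_surjective).mp hy
    exact ⟨⟨a, ha⟩, rfl⟩
  have hex : Function.Exact (Submodule.inclusion hIm) π := by
    intro a
    constructor
    · intro h0
      exact ⟨⟨a.1, Ideal.Quotient.eq_zero_iff_mem.mp (congrArg Subtype.val h0)⟩, rfl⟩
    · rintro ⟨b, rfl⟩
      exact Subtype.ext (Ideal.Quotient.eq_zero_iff_mem.mpr b.2)
  rw [injective_iff_map_eq_zero]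
  intro z hz
  have h3 : π.rTensor M z = 0 := by
    apply CAlgBasics.rTensor_injective_of_flat_baseChange (R ⧸ I) M mb.subtype mb.subtype_injective
    rw [map_zero, ← LinearMap.rTensor_comp_apply,
      show mb.subtype.restrictScalars R ∘ₗ π =
        (Ideal.Quotient.mkₐ R I).toLinearMap ∘ₗ (maximalIdeal R).subtype from rfl,
      LinearMap.rTensor_comp_apply, hz, map_zero]
  obtain ⟨w, rfl⟩ := (rTensor_exact M hex hπ z).mp h3
  rw [← LinearMap.rTensor_comp_apply] at hz
  have : w = 0 := h1 (by rw [map_zero]; exact hz)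
  rw [this, map_zero]

end Groth.Agent.LocFlat
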