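import Mathlib
import Groth.Agent.LocFlat.Basic

set_option autoImplicit false
set_option linter.style.haveILetI false

/-!
# Fibrewise criteria
-/

universe u

open TensorProduct IsLocalRing

namespace Groth.Agent.LocFlat

variable {R S : Type u} [CommRing R] [CommRing S] [Algebra R S]

theorem mem_smul_top_iff {M : Type u} [AddCommGroup M] [Module R M] [Module S M]
    [IsScalarTower R S M] (I : Ideal R) (x : M) :
    x ∈ (I • ⊤ : Submodule R M) ↔ x ∈ (I.map (algebraMap R S) • ⊤ : Submodule S M) := by
  have h := Submodule.restrictScalars_map_smul_eq (R := S) I (⊤ : Submodule S M)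
  rw [Submodule.restrictScalars_top] at h
  rw [← h, Submodule.restrictScalars_mem]

theorem lTensor_residue_injective [IsLocalRing R] {N M : Type u} [AddCommGroup N] [Module R N]
    [AddCommGroup M] [Module R M] (u : N →ₗ[R] M)
    (h : ∀ x, u x ∈ (maximalIdeal R • ⊤ : Submodule R M) →
      x ∈ (maximalIdeal R • ⊤ : Submodule R N)) :
    Function.Injective (u.lTensor (ResidueField R)) := by
  rw [injective_iff_map_eq_zero]
  intro z hz
  obtain ⟨x, rfl⟩ := TensorProduct.mk_surjective (R := R) (M := N) (S := ResidueField R)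
    Ideal.Quotient.mk_surjective z
  have e1 : quotTensorEquivQuotSMul M (maximalIdeal R) (Ideal.Quotient.mk _ 1 ⊗ₜ[R] u x) =
      Submodule.Quotient.mk ((1 : R) • u x) := quotTensorEquivQuotSMul_mk_tmul _ _ _
  have e2 : (Ideal.Quotient.mk (maximalIdeal R) 1 ⊗ₜ[R] u x :
      (R ⧸ maximalIdeal R) ⊗[R] M) = 0 := hz
  rw [e2, map_zero, one_smul, eq_comm, Submodule.Quotient.mk_eq_zero] at e1
  have e3 : quotTensorEquivQuotSMul N (maximalIdeal R) (Ideal.Quotient.mk _ 1 ⊗ₜ[R] x) = 0 := by
    rw [quotTensorEquivQuotSMul_mk_tmul, one_smul, Submodule.Quotient.mk_eq_zero]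
    exact h x e1
  exact (LinearEquiv.map_eq_zero_iff _).mp e3

variable [IsLocalRing R] [IsLocalRing S] [IsNoetherianRing R] [IsNoetherianRing S]
  [IsLocalHom (algebraMap R S)]

omit [IsNoetherianRing R] in
theorem flat_quotient_and_regular [Module.Flat R S] (f : S)
    (hf : Ideal.Quotient.mk ((maximalIdeal R).map (algebraMap R S)) f ∈
      nonZeroDivisors (S ⧸ (maximalIdeal R).map (algebraMap R S))) :
    Module.Flat R (S ⧸ Ideal.span {f}) ∧ f ∈ nonZeroDivisors S := by
  let u : S →ₗ[R] S := LinearMap.mulRight R f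
  obtain ⟨hinj, hflat⟩ := injective_and_flat_of_residue (S := S) u
    (lTensor_residue_injective u fun x hx => by
      rw [Ideal.smul_top_eq_map, Submodule.restrictScalars_mem, ← Ideal.Quotient.eq_zero_iff_mem]
        at hx ⊢
      exact hf.2 _ (by rw [← map_mul]; exact hx))
  refine ⟨?_, ?_⟩
  · haveI := hflat
    have e : LinearMap.range u = (Ideal.span {f}).restrictScalars R := by
      ext y
      rw [Submodule.restrictScalars_mem, Ideal.mem_span_singleton']
      exact Iff.rfl
    exact Module.Flat.of_linearEquiv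
      ((Submodule.quotEquivOfEq _ _ e).trans (Submodule.Quotient.restrictScalarsEquiv R _)).symm
  · rw [mem_nonZeroDivisors_iff_right]
    intro x hx
    exact hinj (show u x = u 0 by rw [map_zero]; exact hx)

omit [IsNoetherianRing R] in
theorem free_of_free_fibre {M : Type u} [AddCommGroup M] [Module R M] [Module S M]
    [IsScalarTower R S M] [Module.Finite S M] [Nontrivial M] [Module.Flat R M]
    (h : Module.Free (S ⧸ (maximalIdeal R).map (algebraMap R S))
      ((S ⧸ (maximalIdeal R).map (algebraMap R S)) ⊗[S] M)) :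
    Module.Free S M ∧ Module.Flat R S := by
  classical
  let I := (maximalIdeal R).map (algebraMap R S)
  haveI := h
  haveI : Nontrivial (S ⧸ I) := Ideal.Quotient.nontrivial_iff.mpr fun htop => by
    have h1 := map_le_jacobson (R := R) (S := S)
    rw [show (maximalIdeal R).map (algebraMap R S) = ⊤ from htop, top_le_iff,
      IsLocalRing.jacobson_eq_maximalIdeal ⊥ bot_ne_top] at h1
    exact (maximalIdeal.isMaximal S).ne_top h1
  let b := Module.Free.chooseBasis (S ⧸ I) ((S ⧸ I) ⊗[S] M)
  let ι := Module.Free.ChooseBasisIndex (S ⧸ I) ((S ⧸ I) ⊗[S] M)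
  let π : M →ₗ[S] (S ⧸ I) ⊗[S] M := TensorProduct.mk S (S ⧸ I) M 1
  have hπ : Function.Surjective π :=
    TensorProduct.mk_surjective S M (S ⧸ I) Ideal.Quotient.mk_surjective
  choose m hm using fun i => hπ (b i)
  let v : (ι → S) →ₗ[S] M := Fintype.linearCombination S m
  have hπv : ∀ x : ι → S, π (v x) = ∑ i, Ideal.Quotient.mk I (x i) • b i := fun x => by
    rw [Fintype.linearCombination_apply, map_sum]
    refine Finset.sum_congr rfl fun i _ => ?_
    rw [map_smul, hm, ← algebraMap_smul (S ⧸ I) (x i) (b i)]
    rfl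
  have hker : ∀ y : M, π y = 0 ↔ y ∈ (I • ⊤ : Submodule S M) := fun y => by
    rw [← Submodule.Quotient.mk_eq_zero]
    have e : quotTensorEquivQuotSMul M I (Ideal.Quotient.mk I 1 ⊗ₜ[S] y) =
        Submodule.Quotient.mk ((1 : S) • y) := quotTensorEquivQuotSMul_mk_tmul _ _ _
    rw [one_smul] at e
    rw [← e, LinearEquiv.map_eq_zero_iff]
    exact Iff.rfl
  have hsurj : Function.Surjective v := by
    rw [← LinearMap.range_eq_top]
    refine eq_top_iff.mpr (Submodule.le_of_le_smul_of_le_jacobson_bot Module.Finite.fg_top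
      (map_le_jacobson (R := R) (S := S)) ?_)
    intro y _
    let c := fun i => Function.surjInv Ideal.Quotient.mk_surjective (b.repr (π y) i)
    have hc : π (v c) = π y := by
      rw [hπv]
      conv_rhs => rw [← b.sum_repr (π y)]
      refine Finset.sum_congr rfl fun i _ => ?_
      rw [Function.surjInv_eq Ideal.Quotient.mk_surjective]
    have h1 : y - v c ∈ (I • ⊤ : Submodule S M) := (hker _).mp (by rw [map_sub, hc, sub_self])
    have h2 : y = v c + (y - v c) := by abel
    rw [h2]
    exact add_mem (Submodule.mem_sup_left (LinearMap.mem_range_self v c))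
      (Submodule.mem_sup_right h1)
  have hres : Function.Injective ((v.restrictScalars R).lTensor (ResidueField R)) := by
    refine lTensor_residue_injective _ fun x hx => ?_
    have h1 : π (v x) = 0 := (hker _).mpr ((mem_smul_top_iff (S := S) _ _).mp hx)
    rw [hπv] at h1
    have h2 := Fintype.linearIndependent_iff.mp b.linearIndependent _ h1
    rw [pi_eq_sum_univ x]
    refine Submodule.sum_mem _ fun i _ => ?_
    rw [mem_smul_top_iff (S := S)]
    exact Submodule.smul_mem_smul (Ideal.Quotient.eq_zero_iff_mem.mp (h2 i)) Submodule.mem_top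
  obtain ⟨hinj, -⟩ := injective_and_flat_of_residue (S := S) (v.restrictScalars R) hres
  let e : (ι → S) ≃ₗ[S] M := LinearEquiv.ofBijective v ⟨hinj, hsurj⟩
  refine ⟨Module.Free.of_equiv e, ?_⟩
  haveI : Nonempty ι := by
    by_contra hne
    rw [not_nonempty_iff] at hne
    exact not_subsingleton M (e.toEquiv.symm.subsingleton)
  obtain ⟨i⟩ := ‹Nonempty ι›
  haveI : Module.Flat R (ι → S) := Module.Flat.of_linearEquiv (e.restrictScalars R)
  let si : S →ₗ[R] (ι → S) := LinearMap.pi fun j => if j = i then LinearMap.id else 0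
  exact Module.Flat.of_retract si (LinearMap.proj i : (ι → S) →ₗ[R] S)
    (LinearMap.ext fun x => by simp [si])

omit [IsLocalRing R] [IsLocalRing S] [IsNoetherianRing R] [IsNoetherianRing S]
  [IsLocalHom (algebraMap R S)] in
theorem flat_left_of_faithfullyFlat {M : Type u} [AddCommGroup M] [Module R M] [Module S M]
    [IsScalarTower R S M] [Module.Flat R M] [Module.FaithfullyFlat S M] : Module.Flat R S := by
  rw [Module.Flat.iff_lTensor_preserves_injective_linearMap]
  intro P Q _ _ _ _ f hf
  have h1 : Function.Injective (f.baseChange S) := by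
    rw [← Module.FaithfullyFlat.lTensor_injective_iff_injective S M]
    let a := AlgebraTensorModule.cancelBaseChange R S S M P
    let b := AlgebraTensorModule.cancelBaseChange R S S M Q
    have e : ⇑b ∘ ⇑((f.baseChange S).lTensor M) = ⇑(f.lTensor M) ∘ ⇑a := by
      funext z
      induction z with
      | zero => simp
      | tmul x y =>
        induction y with
        | zero => simp
        | tmul r m => simp [a, b]
        | add u v hu hv => simp_all [TensorProduct.tmul_add]
      | add u v hu hv => simp_all
    rw [← EquivLike.comp_injective _ b, e]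
    exact (Module.Flat.lTensor_preserves_injective_linearMap f hf).comp a.injective
  exact h1

omit [IsNoetherianRing R] in
theorem flat_fibrewise {S' M : Type u} [CommRing S'] [IsLocalRing S'] [IsNoetherianRing S']
    [Algebra S S'] [IsLocalHom (algebraMap S S')]
    [AddCommGroup M] [Module S' M] [Module S M] [Module R M] [IsScalarTower S S' M]
    [IsScalarTower R S M] [Module.Finite S' M] [Nontrivial M] [Module.Flat R M]
    (h : Module.Flat (S ⧸ (maximalIdeal R).map (algebraMap R S))
      ((S ⧸ (maximalIdeal R).map (algebraMap R S)) ⊗[S] M)) :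
    Module.Flat R S ∧ Module.Flat S M := by
  let I := (maximalIdeal R).map (algebraMap R S)
  have hI : I ≠ ⊤ := fun htop => by
    have h1 := map_le_jacobson (R := R) (S := S)
    rw [show (maximalIdeal R).map (algebraMap R S) = ⊤ from htop, top_le_iff,
      IsLocalRing.jacobson_eq_maximalIdeal ⊥ bot_ne_top] at h1
    exact (maximalIdeal.isMaximal S).ne_top h1
  have h1 : Function.Injective (I.subtype.rTensor M) := by
    let j : maximalIdeal R →ₗ[R] I :=
      LinearMap.codRestrict (I.restrictScalars R)
        ((Algebra.linearMap R S) ∘ₗ (maximalIdeal R).subtype) fun a => Ideal.mem_map_of_mem _ a.2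
    let φ : maximalIdeal R ⊗[R] M →+ I ⊗[S] M := TensorProduct.liftAddHom
      { toFun := fun a => ((TensorProduct.mk S I M (j a)).toAddMonoidHom)
        map_zero' := by ext; simp
        map_add' := fun a b => by ext; simp }
      (fun r a x => by
        show j (r • a) ⊗ₜ[S] x = j a ⊗ₜ[S] (r • x)
        rw [map_smul, ← algebraMap_smul S r (j a), ← algebraMap_smul S r x, smul_tmul])
    have hφ : Function.Surjective φ := by
      intro z
      induction z using TensorProduct.induction_on with
      | zero => exact ⟨0, map_zero _⟩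
      | add x y hx hy =>
        obtain ⟨a, rfl⟩ := hx
        obtain ⟨b, rfl⟩ := hy
        exact ⟨a + b, map_add _ _ _⟩
      | tmul y x =>
        obtain ⟨y, hy⟩ := y
        induction hy using Submodule.span_induction generalizing x with
        | mem y hy =>
          obtain ⟨a, ha, rfl⟩ := hy
          exact ⟨⟨a, ha⟩ ⊗ₜ x, rfl⟩
        | zero => exact ⟨0, by rw [map_zero]; exact (zero_tmul _ x).symm⟩
        | add y z hy hz ihy ihz =>
          obtain ⟨a, ha⟩ := ihy x
          obtain ⟨b, hb⟩ := ihz x
          exact ⟨a + b, by rw [map_add, ha, hb, ← add_tmul]; rfl⟩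
        | smul s y hy ih =>
          obtain ⟨a, ha⟩ := ih (s • x)
          refine ⟨a, ?_⟩
          rw [ha, ← smul_tmul]
          rfl
    let χ : M →ₗ[S] S ⊗[S] M := (TensorProduct.lid S M).symm.toLinearMap
    have key : ∀ w, TensorProduct.lid S M (I.subtype.rTensor M (φ w)) =
        TensorProduct.lid R M ((maximalIdeal R).subtype.rTensor M w) := by
      intro w
      induction w using TensorProduct.induction_on with
      | zero => simp
      | tmul a x =>
        show TensorProduct.lid S M ((algebraMap R S a.1) ⊗ₜ[S] x) = _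
        simp
      | add x y hx hy => simp only [map_add, hx, hy]
    rw [injective_iff_map_eq_zero]
    intro z hz
    obtain ⟨w, rfl⟩ := hφ z
    have hw := key w
    rw [hz, map_zero] at hw
    have h0 : w = 0 := by
      apply Module.Flat.rTensor_preserves_injective_linearMap (M := M) (maximalIdeal R).subtype
        (maximalIdeal R).subtype_injective
      rw [map_zero]
      exact (LinearEquiv.map_eq_zero_iff _).mp hw.symm
    rw [h0, map_zero]
  have hflat : Module.Flat S M := flat_of_ideal (S := S') I hI h1 h
  haveI := hflat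
  haveI : Module.FaithfullyFlat S M := by
    refine ⟨fun p hp htop => ?_⟩
    have hp' : p = maximalIdeal S := IsLocalRing.eq_maximalIdeal hp
    subst hp'
    have h2 : (⊤ : Submodule S' M) ≤ (maximalIdeal S).map (algebraMap S S') • ⊤ := fun x _ =>
      (mem_smul_top_iff (S := S') _ x).mp (htop.ge Submodule.mem_top)
    exact top_ne_bot (Submodule.eq_bot_of_le_smul_of_le_jacobson_bot _ _ Module.Finite.fg_top h2
      (map_le_jacobson (R := S) (S := S')))
  exact ⟨flat_left_of_faithfullyFlat (M := M), hflat⟩

omit [IsLocalRing R] [IsLocalRing S] [IsLocalHom (algebraMap R S)] in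
theorem flat_localized_of_forall {M : Type u} [AddCommGroup M] [Module R M] [Module S M]
    [IsScalarTower R S M] [Module.Finite S M] (I : Ideal R)
    (h : ∀ n : ℕ, 0 < n → Module.Flat (R ⧸ I ^ n) ((R ⧸ I ^ n) ⊗[R] M))
    (q : Ideal S) [q.IsPrime] (hq : I.map (algebraMap R S) ≤ q) :
    Module.Flat R (LocalizedModule q.primeCompl M) := by
  let Sq := Localization.AtPrime q
  let Mq := LocalizedModule q.primeCompl M
  let g := LocalizedModule.mkLinearMap q.primeCompl M
  haveI : IsScalarTower R Sq Mq := IsScalarTower.of_algebraMap_smul fun r x => by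
    rw [IsScalarTower.algebraMap_apply R S Sq, algebraMap_smul, algebraMap_smul]
  haveI : Module.Finite Sq Mq := Module.Finite.of_isLocalizedModule q.primeCompl g
  have hI : I.map (algebraMap R Sq) ≤ Ideal.jacobson ⊥ := by
    rw [IsLocalRing.jacobson_eq_maximalIdeal ⊥ bot_ne_top,
      IsScalarTower.algebraMap_eq R S Sq, ← Ideal.map_map,
      ← Localization.AtPrime.map_eq_maximalIdeal]
    exact Ideal.map_mono hq
  refine flat_of_forall_mem_range (S := Sq) I hI fun J z hz n => ?_
  rcases Nat.eq_zero_or_pos n with rfl | hn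
  · refine LinearMap.lTensor_surjective Mq (fun x => ⟨⟨x.1, x.2, ?_⟩, rfl⟩) z
    rw [pow_zero, Ideal.one_eq_top]
    exact Submodule.mem_top
  haveI := h n hn
  let Jb : Submodule (R ⧸ I ^ n) (R ⧸ I ^ n) := J.map (Ideal.Quotient.mk (I ^ n))
  let π : J →ₗ[R] Jb :=
    LinearMap.codRestrict (Jb.restrictScalars R)
      ((Ideal.Quotient.mkₐ R (I ^ n)).toLinearMap ∘ₗ J.subtype)
      fun a => Ideal.mem_map_of_mem _ a.2
  have hπ : Function.Surjective π := by
    rintro ⟨y, hy⟩
    obtain ⟨a, ha, rfl⟩ := (Ideal.mem_map_iff_of_surjective _ Ideal.Quotient.mk_surjective).mp hy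
    exact ⟨⟨a, ha⟩, rfl⟩
  have hex : Function.Exact (Submodule.inclusion (inf_le_left : J ⊓ I ^ n ≤ J)) π := by
    intro a
    constructor
    · intro h0
      exact ⟨⟨a.1, a.2, Ideal.Quotient.eq_zero_iff_mem.mp (congrArg Subtype.val h0)⟩, rfl⟩
    · rintro ⟨b, rfl⟩
      exact Subtype.ext (Ideal.Quotient.eq_zero_iff_mem.mpr b.2.2)
  have hinjM : Function.Injective ((Jb.subtype.restrictScalars R).lTensor M) :=
    (LinearMap.lTensor_inj_iff_rTensor_inj _ _).mpr
      (CAlgBasics.rTensor_injective_of_flat_baseChange (R ⧸ I ^ n) M Jb.subtype Jb.subtype_injective)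
  have hinj : Function.Injective ((Jb.subtype.restrictScalars R).lTensor Mq) := by
    have h1 := IsLocalizedModule.map_injective q.primeCompl
      (AlgebraTensorModule.rTensor R Jb g) (AlgebraTensorModule.rTensor R (R ⧸ I ^ n) g)
      (AlgebraTensorModule.lTensor S M (Jb.subtype.restrictScalars R)) hinjM
    simpa [IsLocalizedModule.map_lTensor] using h1
  apply (lTensor_exact Mq hex hπ z).mp
  apply hinj
  rw [map_zero, ← LinearMap.lTensor_comp_apply,
    show Jb.subtype.restrictScalars R ∘ₗ π = (Ideal.Quotient.mkₐ R (I ^ n)).toLinearMap ∘ₗ J.subtype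
      from rfl, LinearMap.lTensor_comp_apply, hz, map_zero]

end Groth.Agent.LocFlat
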