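import Mathlib
import Groth.Agent.CAlgBasics.FlatAux

set_option autoImplicit false
set_option linter.style.haveILetI false
set_option backward.isDefEq.respectTransparency false
set_option backward.defeqAttrib.useBackward true

/-!
# Universal injectivity and a flatness criterion along a nonzerodivisor
-/

universe u

open TensorProduct

namespace Groth.Agent.LocFlat

variable {R : Type u} [CommRing R]

theorem exact_ker {M N : Type u} [AddCommMonoid M] [Module R M] [AddCommMonoid N] [Module R N]
    (π : M →ₗ[R] N) : Function.Exact (LinearMap.ker π).subtype π :=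
  fun y => ⟨fun h => ⟨⟨y, h⟩, rfl⟩, fun ⟨x, hx⟩ => hx ▸ x.2⟩

theorem lTensor_exact_ker {F G : Type u} [AddCommGroup F] [Module R F] [AddCommGroup G] [Module R G]
    (V : Type u) [AddCommGroup V] [Module R V] (π : F →ₗ[R] G) (hπ : Function.Surjective π) :
    Function.Exact ((LinearMap.ker π).subtype.lTensor V) (π.lTensor V) :=
  lTensor_exact V (exact_ker π) hπ

theorem finsuppScalarRight_lTensor {ι : Type u} [DecidableEq ι] {M N : Type u} [AddCommGroup M]
    [Module R M] [AddCommGroup N] [Module R N] (g : M →ₗ[R] N) (z : M ⊗[R] (ι →₀ R)) (i : ι) :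
    TensorProduct.finsuppScalarRight R R N ι (g.rTensor (ι →₀ R) z) i =
      g (TensorProduct.finsuppScalarRight R R M ι z i) := by
  induction z using TensorProduct.induction_on with
  | zero => simp
  | tmul x y => simp [TensorProduct.finsuppScalarRight_apply_tmul_apply]
  | add x y hx hy => simp [map_add, hx, hy]

/-- A vanishing tensor over a flat module comes from a factorization. -/
theorem exists_factor_of_rTensor_eq_zero {F N Q : Type u} [AddCommGroup F] [Module R F]
    [Module.Free R F] [Module.Finite R F] [AddCommGroup N] [Module R N] [Module.Flat R N]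
    [AddCommGroup Q] [Module R Q] (w : F →ₗ[R] N) (z : F ⊗[R] Q) (hz : w.rTensor Q z = 0) :
    ∃ (k : ℕ) (a : F →ₗ[R] (Fin k →₀ R)) (y : (Fin k →₀ R) →ₗ[R] N),
      w = y ∘ₗ a ∧ a.rTensor Q z = 0 := by
  classical
  let π : (Q →₀ R) →ₗ[R] Q := Finsupp.linearCombination R id
  have hπ : Function.Surjective π := Finsupp.linearCombination_id_surjective R Q
  obtain ⟨zt, rfl⟩ := LinearMap.lTensor_surjective F hπ z
  rw [← LinearMap.comp_apply, LinearMap.rTensor_comp_lTensor, ← LinearMap.lTensor_comp_rTensor,
    LinearMap.comp_apply] at hz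
  obtain ⟨v, hv⟩ := (lTensor_exact_ker N π hπ _).mp hz
  obtain ⟨m, nn, ll, hsum⟩ : ∃ (m : ℕ) (nn : Fin m → N) (ll : Fin m → LinearMap.ker π),
      ∑ i, nn i ⊗ₜ[R] ll i = v := by
    obtain ⟨S, hS⟩ := TensorProduct.exists_finset v
    refine ⟨S.card, fun i => (S.equivFin.symm i).1.1, fun i => (S.equivFin.symm i).1.2, ?_⟩
    rw [hS, Equiv.sum_comp S.equivFin.symm fun p => p.1.1 ⊗ₜ[R] p.1.2]
    exact Finset.sum_coe_sort S fun p => p.1 ⊗ₜ[R] p.2
  let w' : (F × (Fin m → R)) →ₗ[R] N := LinearMap.coprod w (-(Fintype.linearCombination R nn))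
  let zz : (F × (Fin m → R)) ⊗[R] (Q →₀ R) :=
    (LinearMap.inl R F (Fin m → R)).rTensor _ zt +
      (LinearMap.inr R F (Fin m → R)).rTensor _ (∑ i, Pi.single i (1 : R) ⊗ₜ[R] (ll i).1)
  have hzz : w'.rTensor _ zz = 0 := by
    simp only [zz, map_add, ← LinearMap.rTensor_comp_apply, w', LinearMap.coprod_inl,
      LinearMap.coprod_inr]
    rw [← hv, ← hsum]
    simp only [map_sum, LinearMap.lTensor_tmul, LinearMap.rTensor_tmul, LinearMap.neg_apply,
      Fintype.linearCombination_apply_single, one_smul, TensorProduct.neg_tmul]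
    rw [← Finset.sum_add_distrib]
    refine Finset.sum_eq_zero fun i _ => ?_
    exact add_neg_cancel _
  let c := TensorProduct.finsuppScalarRight R R (F × (Fin m → R)) Q zz
  let K : Submodule R (F × (Fin m → R)) := Submodule.span R (c '' c.support)
  haveI : Module.Finite R K :=
    Module.Finite.span_of_finite R ((c.support.finite_toSet).image c)
  have hK : w' ∘ₗ K.subtype = 0 := by
    refine LinearMap.ext fun x => ?_
    refine Submodule.span_induction (p := fun x _ => w' x = 0) ?_ (map_zero _)
      (fun _ _ _ _ ha hb => by rw [map_add, ha, hb, add_zero])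
      (fun r _ _ ha => by rw [map_smul, ha, smul_zero]) x.2
    rintro _ ⟨i, -, rfl⟩
    rw [← finsuppScalarRight_lTensor, hzz, map_zero, Finsupp.zero_apply]
  obtain ⟨k, a, y, hya, haK⟩ := Module.Flat.exists_factorization_of_comp_eq_zero_of_free hK
  refine ⟨k, a ∘ₗ LinearMap.inl R F (Fin m → R), y, ?_, ?_⟩
  · rw [← LinearMap.comp_assoc, ← hya]
    exact (LinearMap.coprod_inl _ _).symm
  · have h0 : a.rTensor _ zz = 0 := by
      apply (TensorProduct.finsuppScalarRight R R (Fin k →₀ R) Q).injective
      rw [map_zero]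
      refine Finsupp.ext fun i => ?_
      rw [finsuppScalarRight_lTensor, Finsupp.zero_apply]
      by_cases hi : i ∈ c.support
      · exact LinearMap.congr_fun haK ⟨c i, Submodule.subset_span ⟨i, hi, rfl⟩⟩
      · rw [show (TensorProduct.finsuppScalarRight R R (F × (Fin m → R)) Q zz) i = 0 from
          Finsupp.notMem_support_iff.mp hi, map_zero]
    have h1 := congrArg (π.lTensor (Fin k →₀ R)) h0
    simp only [zz, map_add, map_zero, map_sum, ← LinearMap.rTensor_comp_apply,
      LinearMap.rTensor_tmul, LinearMap.lTensor_tmul] at h1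
    rw [Finset.sum_eq_zero (fun i _ => by
      rw [show π (ll i).1 = 0 from (ll i).2, TensorProduct.tmul_zero]), add_zero,
      ← LinearMap.comp_apply, LinearMap.lTensor_comp_rTensor, ← LinearMap.rTensor_comp_lTensor,
      LinearMap.comp_apply] at h1
    exact h1

theorem universallyInjective_finite [IsLocalRing R] {F N : Type u} [AddCommGroup F] [Module R F]
    [Module.Free R F] [Module.Finite R F] [AddCommGroup N] [Module R N] [Module.Flat R N]
    (w : F →ₗ[R] N) (h : Function.Injective (w.lTensor (IsLocalRing.ResidueField R)))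
    (Q : Type u) [AddCommGroup Q] [Module R Q] : Function.Injective (w.rTensor Q) := by
  rw [injective_iff_map_eq_zero]
  intro z hz
  obtain ⟨k, a, y, rfl, haz⟩ := exists_factor_of_rTensor_eq_zero w z hz
  have ha : Function.Injective (a.lTensor (IsLocalRing.ResidueField R)) := by
    refine Function.Injective.of_comp (f := y.lTensor (IsLocalRing.ResidueField R)) ?_
    rw [← LinearMap.coe_comp, ← LinearMap.lTensor_comp]
    exact h
  obtain ⟨l, hl⟩ := (IsLocalRing.split_injective_iff_lTensor_residueField_injective a).mpr ha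
  have h2 : (l ∘ₗ a).rTensor Q z = 0 := by rw [LinearMap.rTensor_comp_apply, haz, map_zero]
  rwa [hl, LinearMap.rTensor_id, LinearMap.id_apply] at h2

/-- A map from a projective module to a flat module which is injective on the closed fibre is
universally injective. -/
theorem universallyInjective_of_residue [IsLocalRing R] {M N : Type u} [AddCommGroup M] [Module R M]
    [Module.Projective R M] [AddCommGroup N] [Module R N] [Module.Flat R N] (u : M →ₗ[R] N)
    (h : Function.Injective (u.lTensor (IsLocalRing.ResidueField R)))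
    (Q : Type u) [AddCommGroup Q] [Module R Q] : Function.Injective (u.rTensor Q) := by
  classical
  obtain ⟨s, hs⟩ := (inferInstance : Module.Projective R M).out
  let π : (M →₀ R) →ₗ[R] M := Finsupp.linearCombination R id
  have hs' : π ∘ₗ s = LinearMap.id := LinearMap.ext hs
  let e : (M →₀ R) →ₗ[R] (M →₀ R) := LinearMap.id - s ∘ₗ π
  let u' : (M →₀ R) →ₗ[R] N × (M →₀ R) := LinearMap.prod (u ∘ₗ π) e
  haveI : Module.Flat R (N × (M →₀ R)) := CAlgBasics.flat_of_exact (f := LinearMap.inl R N (M →₀ R))
    (g := LinearMap.snd R N (M →₀ R)) LinearMap.inl_injective Function.Exact.inl_snd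
    LinearMap.snd_surjective
  have hu' : Function.Injective (u'.lTensor (IsLocalRing.ResidueField R)) := by
    rw [injective_iff_map_eq_zero]
    intro t ht
    have h1 := congrArg ((LinearMap.fst R N (M →₀ R)).lTensor (IsLocalRing.ResidueField R)) ht
    rw [← LinearMap.lTensor_comp_apply, map_zero,
      show LinearMap.fst R N (M →₀ R) ∘ₗ u' = u ∘ₗ π from rfl,
      LinearMap.lTensor_comp_apply] at h1
    have h2 := congrArg ((LinearMap.snd R N (M →₀ R)).lTensor (IsLocalRing.ResidueField R)) ht
    rw [← LinearMap.lTensor_comp_apply, map_zero,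
      show LinearMap.snd R N (M →₀ R) ∘ₗ u' = e from rfl,
      LinearMap.lTensor_sub, LinearMap.sub_apply, LinearMap.lTensor_id, LinearMap.id_apply,
      LinearMap.lTensor_comp_apply, h (h1.trans (map_zero _).symm), map_zero, sub_zero] at h2
    exact h2
  rw [injective_iff_map_eq_zero]
  intro z hz
  have key : u'.rTensor Q (s.rTensor Q z) = 0 := by
    have hus : u' ∘ₗ s = LinearMap.inl R N (M →₀ R) ∘ₗ u := by
      refine LinearMap.ext fun x => Prod.ext ?_ ?_
      · show u (π (s x)) = u x
        rw [hs x]
      · show s x - s (π (s x)) = 0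
        rw [hs x, sub_self]
    rw [← LinearMap.rTensor_comp_apply, hus, LinearMap.rTensor_comp_apply, hz, map_zero]
  obtain ⟨t, ht⟩ : ∃ t : Finset M, ∀ t', t ⊆ t' →
      ((Finsupp.lmapDomain R R (Subtype.val : t' → M)) ∘ₗ
        (Finsupp.lcomapDomain (Subtype.val : t' → M) Subtype.val_injective)).rTensor Q
          (s.rTensor Q z) = s.rTensor Q z := by
    generalize s.rTensor Q z = y
    induction y using TensorProduct.induction_on with
    | zero => exact ⟨∅, fun _ _ => map_zero _⟩
    | tmul x q =>
      refine ⟨x.support, fun t' ht' => ?_⟩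
      rw [LinearMap.rTensor_tmul]
      congr 1
      refine Finsupp.ext fun a => ?_
      show Finsupp.mapDomain (Subtype.val : t' → M) (Finsupp.comapDomain _ x _) a = x a
      by_cases ha : a ∈ t'
      · exact Finsupp.mapDomain_apply Subtype.val_injective _ (⟨a, ha⟩ : t')
      · rw [Finsupp.mapDomain_of_notMem_range _ _ (by simpa using ha)]
        exact (Finsupp.notMem_support_iff.mp fun h => ha (ht' h)).symm
    | add x y hx hy =>
      obtain ⟨t₁, h₁⟩ := hx
      obtain ⟨t₂, h₂⟩ := hy
      exact ⟨t₁ ∪ t₂, fun t' ht' => by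
        rw [map_add, h₁ t' (Finset.union_subset_left ht'), h₂ t' (Finset.union_subset_right ht')]⟩
  let i : (t →₀ R) →ₗ[R] (M →₀ R) := Finsupp.lmapDomain R R (Subtype.val : t → M)
  let r : (M →₀ R) →ₗ[R] (t →₀ R) :=
    Finsupp.lcomapDomain (Subtype.val : t → M) Subtype.val_injective
  have hri : r ∘ₗ i = LinearMap.id := LinearMap.ext fun x =>
    Finsupp.comapDomain_mapDomain _ Subtype.val_injective x
  have hw : Function.Injective ((u' ∘ₗ i).lTensor (IsLocalRing.ResidueField R)) := by
    rw [LinearMap.lTensor_comp, LinearMap.coe_comp]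
    refine hu'.comp ?_
    refine Function.Injective.of_comp (f := r.lTensor (IsLocalRing.ResidueField R)) ?_
    rw [← LinearMap.coe_comp, ← LinearMap.lTensor_comp, hri, LinearMap.lTensor_id]
    exact Function.injective_id
  have h3 : r.rTensor Q (s.rTensor Q z) = 0 := by
    apply universallyInjective_finite (u' ∘ₗ i) hw Q
    rw [map_zero, LinearMap.rTensor_comp_apply,
      show i.rTensor Q (r.rTensor Q (s.rTensor Q z)) = s.rTensor Q z by
        rw [← LinearMap.rTensor_comp_apply]; exact ht t subset_rfl, key]
  have h4 : s.rTensor Q z = 0 := by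
    rw [← ht t subset_rfl, LinearMap.rTensor_comp_apply, h3, map_zero]
  have h5 := congrArg (π.rTensor Q) h4
  rwa [← LinearMap.rTensor_comp_apply, hs', LinearMap.rTensor_id, LinearMap.id_apply, map_zero] at h5

section NZD

variable {M : Type u} [AddCommGroup M] [Module R M] (f : R)

/-- Modules killed by `f` see the presentation of `M` as left exact. -/
theorem lTensor_ker_injective (hM : IsSMulRegular M f)
    [Module.Flat (R ⧸ Ideal.span {f}) ((R ⧸ Ideal.span {f}) ⊗[R] M)]
    (V : Type u) [AddCommGroup V] [Module R V] [Module (R ⧸ Ideal.span {f}) V]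
    [IsScalarTower R (R ⧸ Ideal.span {f}) V] :
    Function.Injective
      ((LinearMap.ker (Finsupp.linearCombination R (id : M → M))).subtype.lTensor V) := by
  let π : (M →₀ R) →ₗ[R] M := Finsupp.linearCombination R id
  have hπ : Function.Surjective π := Finsupp.linearCombination_id_surjective R M
  let K := LinearMap.ker π
  let B := R ⧸ Ideal.span {f}
  have hinj : Function.Injective (K.subtype.baseChange B) := by
    rw [injective_iff_map_eq_zero]
    intro z hz
    obtain ⟨x, rfl⟩ := TensorProduct.mk_surjective R K B Ideal.Quotient.mk_surjective z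
    have e1 : quotTensorEquivQuotSMul (M →₀ R) (Ideal.span {f})
        (Ideal.Quotient.mk _ 1 ⊗ₜ[R] (x : M →₀ R)) = Submodule.Quotient.mk ((1 : R) • (x : M →₀ R)) :=
      quotTensorEquivQuotSMul_mk_tmul _ _ _
    have e2 : (Ideal.Quotient.mk (Ideal.span {f}) 1 ⊗ₜ[R] (x : M →₀ R) : B ⊗[R] (M →₀ R)) = 0 := hz
    rw [e2, map_zero, one_smul, eq_comm, Submodule.Quotient.mk_eq_zero,
      Submodule.ideal_span_singleton_smul, Submodule.mem_smul_pointwise_iff_exists] at e1
    obtain ⟨y, -, hy⟩ := e1
    have hyK : y ∈ K := by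
      refine hM (show f • π y = f • (0 : M) from ?_)
      rw [smul_zero, ← map_smul, hy]
      exact x.2
    have hx : x = f • (⟨y, hyK⟩ : K) := Subtype.ext hy.symm
    show (1 : B) ⊗ₜ[R] x = 0
    rw [hx, TensorProduct.tmul_smul, ← IsScalarTower.algebraMap_smul B f,
      show algebraMap R B f = 0 from
        Ideal.Quotient.eq_zero_iff_mem.mpr (Ideal.mem_span_singleton_self f), zero_smul]
  have h1 := CAlgBasics.rTensor_injective_of_flat_quotient (f := K.subtype.baseChange B)
    (g := π.baseChange B) hinj
    (lTensor_exact_ker B π hπ) (LinearMap.lTensor_surjective B hπ) V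
  rw [← LinearMap.lTensor_inj_iff_rTensor_inj] at h1
  let a := AlgebraTensorModule.cancelBaseChange R B B V K
  let b := AlgebraTensorModule.cancelBaseChange R B B V (M →₀ R)
  have e : ⇑(K.subtype.lTensor V) ∘ ⇑a = ⇑b ∘ ⇑((K.subtype.baseChange B).lTensor V) := by
    funext z
    induction z with
    | zero => simp
    | tmul x y =>
      induction y with
      | zero => simp
      | tmul r m => simp [a, b]
      | add u v hu hv => simp_all [TensorProduct.tmul_add]
    | add u v hu hv => simp_all
  rw [← EquivLike.injective_comp a, e]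
  exact b.injective.comp h1

theorem lTensor_injective_of_smul_le (hM : IsSMulRegular M f)
    [Module.Flat (R ⧸ Ideal.span {f}) ((R ⧸ Ideal.span {f}) ⊗[R] M)]
    {Q : Type u} [AddCommGroup Q] [Module R Q] (P : Submodule R Q) (hP : ∀ q, f • q ∈ P) :
    Function.Injective (P.subtype.lTensor M) := by
  rw [LinearMap.lTensor_inj_iff_rTensor_inj, injective_iff_map_eq_zero]
  intro z hz
  let π : (M →₀ R) →ₗ[R] M := Finsupp.linearCombination R id
  have hπ : Function.Surjective π := Finsupp.linearCombination_id_surjective R M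
  let K := LinearMap.ker π
  obtain ⟨zt, rfl⟩ := LinearMap.lTensor_surjective P hπ z
  rw [← LinearMap.comp_apply, LinearMap.rTensor_comp_lTensor, ← LinearMap.lTensor_comp_rTensor,
    LinearMap.comp_apply] at hz
  obtain ⟨w, hw⟩ := (lTensor_exact_ker Q π hπ _).mp hz
  have htor : Module.IsTorsionBySet R (Q ⧸ P) (Ideal.span {f} : Ideal R) := by
    rintro x ⟨a, ha⟩
    obtain ⟨c, rfl⟩ := Ideal.mem_span_singleton'.mp ha
    obtain ⟨q, rfl⟩ := Submodule.Quotient.mk_surjective _ x
    show (c * f) • Submodule.Quotient.mk q = 0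
    rw [mul_smul, ← Submodule.Quotient.mk_smul, (Submodule.Quotient.mk_eq_zero P).mpr (hP q),
      smul_zero]
  letI := htor.module
  haveI : IsScalarTower R (R ⧸ Ideal.span {f}) (Q ⧸ P) := htor.isScalarTower
  have h0 : P.mkQ.rTensor K w = 0 := by
    apply lTensor_ker_injective (M := M) f hM (Q ⧸ P)
    rw [map_zero, ← LinearMap.comp_apply, LinearMap.lTensor_comp_rTensor,
      ← LinearMap.rTensor_comp_lTensor, LinearMap.comp_apply, hw, ← LinearMap.rTensor_comp_apply,
      (LinearMap.exact_subtype_mkQ P).linearMap_comp_eq_zero, LinearMap.rTensor_zero,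
      LinearMap.zero_apply]
  obtain ⟨v, rfl⟩ := (rTensor_exact K (LinearMap.exact_subtype_mkQ P) P.mkQ_surjective w).mp h0
  have h1 : zt = K.subtype.lTensor P v := by
    apply Module.Flat.rTensor_preserves_injective_linearMap (M := M →₀ R) P.subtype P.subtype_injective
    rw [← hw, ← LinearMap.comp_apply, LinearMap.lTensor_comp_rTensor,
      ← LinearMap.rTensor_comp_lTensor, LinearMap.comp_apply]
  rw [h1, ← LinearMap.lTensor_comp_apply,
    (exact_ker π).linearMap_comp_eq_zero, LinearMap.lTensor_zero,
    LinearMap.zero_apply]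

theorem flat_of_nzd (hA : f ∈ nonZeroDivisors R) (hM : IsSMulRegular M f)
    [Module.Flat (Localization.Away f) (LocalizedModule (Submonoid.powers f) M)]
    [Module.Flat (R ⧸ Ideal.span {f}) ((R ⧸ Ideal.span {f}) ⊗[R] M)] : Module.Flat R M := by
  rw [Module.Flat.iff_lTensor_injective']
  intro J
  rw [injective_iff_map_eq_zero]
  intro z hz
  let g := LocalizedModule.mkLinearMap (Submonoid.powers f) M
  haveI : Module.Flat R (Localization.Away f) := IsLocalization.flat _ (Submonoid.powers f)
  haveI : Module.Flat R (LocalizedModule (Submonoid.powers f) M) :=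
    Module.Flat.trans R (Localization.Away f) _
  have h1 : (AlgebraTensorModule.rTensor R J g) z = 0 := by
    apply Module.Flat.lTensor_preserves_injective_linearMap
      (M := LocalizedModule (Submonoid.powers f) M) J.subtype J.subtype_injective
    rw [map_zero]
    show J.subtype.lTensor _ (g.rTensor J z) = 0
    rw [← LinearMap.comp_apply, LinearMap.lTensor_comp_rTensor, ← LinearMap.rTensor_comp_lTensor,
      LinearMap.comp_apply, hz, map_zero]
  obtain ⟨⟨_, k, rfl⟩, hk⟩ := (IsLocalizedModule.eq_zero_iff (Submonoid.powers f) _).mp h1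
  have hinj : Function.Injective ((LinearMap.lsmul R J f).lTensor M) := by
    let φ := LinearMap.lsmul R J f
    have hφ : Function.Injective φ := fun a b hab => Subtype.ext <| by
      have h2 : f * a.1 = f * b.1 := congrArg Subtype.val hab
      exact mul_cancel_left_mem_nonZeroDivisors hA |>.mp h2
    have h2 := lTensor_injective_of_smul_le f hM (LinearMap.range φ) fun q => ⟨q, rfl⟩
    show Function.Injective (φ.lTensor M)
    rw [show φ = (LinearMap.range φ).subtype ∘ₗ (LinearEquiv.ofInjective φ hφ).toLinearMap from rfl,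
      LinearMap.lTensor_comp, LinearMap.coe_comp]
    exact h2.comp ((LinearEquiv.ofInjective φ hφ).lTensor M).injective
  have key : ∀ w : M ⊗[R] J, (LinearMap.lsmul R J f).lTensor M w = f • w := fun w => by
    rw [show LinearMap.lsmul R J f = f • LinearMap.id from rfl, LinearMap.lTensor_smul,
      LinearMap.smul_apply, LinearMap.lTensor_id, LinearMap.id_apply]
  have hk' : f ^ k • z = 0 := hk
  clear hk
  induction k with
  | zero => rwa [pow_zero, one_smul] at hk'
  | succ k ih =>
    refine ih (hinj ?_)
    rw [map_zero, key, ← mul_smul, ← pow_succ']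
    exact hk'

end NZD

end Groth.Agent.LocFlat
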